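import Groth.Agent.Lib.SmoothStrat6.Final
import Groth.Agent.Lib.FlatStrat.Main

/-!
# Chains of ideals whose steps have smooth strata after a finite locally free cover
-/

set_option autoImplicit false
set_option backward.isDefEq.respectTransparency false
set_option linter.style.haveILetI false
universe u

open CategoryTheory CategoryTheory.Limits AlgebraicGeometry TopologicalSpace

namespace GrothLib.SmoothStratG1

open GrothLib.SmoothStrat6 GrothLib.FlatStrat

variable {X S : Scheme.{u}}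

/-- After a finite locally free surjective cover of `T`, the fibre product is stratified by smooth strata. -/
def Good {T : Scheme.{u}} (f : X ⟶ S) (t : T ⟶ S) : Prop :=
  ∃ (T' : Scheme.{u}) (v : T' ⟶ T), Surjective v ∧ Mor2.IsFinLocFree v ∧ Strat (pullback.snd f (v ≫ t))

theorem Good.of_isEmpty {T : Scheme.{u}} [IsEmpty T] (f : X ⟶ S) (t : T ⟶ S) : Good f t := by
  haveI : IsEmpty ↥(pullback f (𝟙 T ≫ t)) := Function.isEmpty (pullback.snd f (𝟙 T ≫ t))
  exact ⟨T, 𝟙 T, inferInstance, ⟨inferInstance, inferInstance, inferInstance⟩, Strat.empty _⟩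

theorem Good.comp {T T₁ : Scheme.{u}} {f : X ⟶ S} {t : T ⟶ S} (h : Good f t) (k : T₁ ⟶ T) : Good f (k ≫ t) := by
  obtain ⟨T', v, hv1, ⟨hv3, hv4, hv5⟩, hs⟩ := h
  let v' := pullback.snd v k
  let g := pullback.fst v k
  haveI : Surjective v' := MorphismProperty.pullback_snd _ _ hv1
  haveI : IsFinite v' := MorphismProperty.pullback_snd _ _ hv3
  haveI : Flat v' := MorphismProperty.pullback_snd _ _ hv4
  haveI : LocallyOfFinitePresentation v' := MorphismProperty.pullback_snd _ _ hv5
  refine ⟨_, v', inferInstance, ⟨inferInstance, inferInstance, inferInstance⟩, ?_⟩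
  have hC := (IsPullback.of_hasPullback (pullback.snd f (v ≫ t)) g).paste_horiz (IsPullback.of_hasPullback f (v ≫ t))
  have hg : g ≫ v ≫ t = v' ≫ k ≫ t := by simp only [g, v', pullback.condition_assoc]
  rw [hg] at hC
  exact Strat.of_isPullback hC (IsPullback.of_hasPullback f _)
    (hs.baseChange (IsPullback.of_hasPullback (pullback.snd f (v ≫ t)) g))

theorem Good.congr {T : Scheme.{u}} {f : X ⟶ S} {t t' : T ⟶ S} (h : Good f t) (e : t = t') : Good f t' := e ▸ h

theorem Good.of_pullback {X' S' T : Scheme.{u}} {f : X ⟶ S} {f' : X' ⟶ S'} {q : X' ⟶ X} {j : S' ⟶ S}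
    (sq : IsPullback q f' f j) {t : T ⟶ S'} : Good f' t ↔ Good f (t ≫ j) := by
  constructor <;> rintro ⟨T', v, hv1, hv2, hs⟩ <;> refine ⟨T', v, hv1, hv2, ?_⟩
  · have hD := (IsPullback.of_hasPullback f' (v ≫ t)).paste_horiz sq
    rw [Category.assoc] at hD
    exact Strat.of_isPullback hD (IsPullback.of_hasPullback f _) hs
  · have hD := (IsPullback.of_hasPullback f' (v ≫ t)).paste_horiz sq
    rw [Category.assoc] at hD
    exact Strat.of_isPullback (IsPullback.of_hasPullback f _) hD hs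

section Ring

variable {R : Type u} [CommRing R]

/-- The property on algebras. -/
def GoodC {X' : Scheme.{u}} (f : X' ⟶ Spec (CommRingCat.of R)) : AlgProp.{u} R :=
  fun R' _ _ => Good f (Spec.map (CommRingCat.ofHom (algebraMap R R')))

/-- A step whose stratum is cut out by a single element. -/
def PStep (C : AlgProp R) (I J : Ideal R) : Prop :=
  Step C I J ∧ ∃ g ∈ J, J ≤ (I ⊔ Ideal.span {g}).radical

theorem zeroOK_goodC {X' : Scheme.{u}} (f : X' ⟶ Spec (CommRingCat.of R)) : ZeroOK (GoodC f) :=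
  fun R' _ _ _ => by
    haveI : IsEmpty ↥(Spec (CommRingCat.of R')) := inferInstanceAs (IsEmpty (PrimeSpectrum R'))
    exact Good.of_isEmpty f _

variable [IsNoetherianRing R]

theorem exists_step {X' : Scheme.{u}} (f : X' ⟶ Spec (CommRingCat.of R)) [LocallyOfFiniteType f] [QuasiCompact f]
    (I : Ideal R) (hI : I.IsRadical) (hne : I ≠ ⊤) :
    ∃ g : R, g ∉ I ∧ Piece (GoodC f) I (I ⊔ Ideal.span {g}) := by
  classical
  obtain ⟨P, hP⟩ := Ideal.nonempty_minimalPrimes hne
  have hfin : I.minimalPrimes.Finite := Ideal.finite_minimalPrimes_of_isNoetherianRing R I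
  haveI hPp : P.IsPrime := hP.1.1
  have hnle : ¬ (hfin.toFinset.erase P).inf id ≤ P := fun h => by
    obtain ⟨Q, hQ, hQP⟩ := (Ideal.IsPrime.inf_le' hPp).1 h
    rw [Finset.mem_erase, hfin.mem_toFinset] at hQ
    exact hQ.1 (le_antisymm hQP (hP.2 hQ.2.1 hQP))
  obtain ⟨h, hh, hhP⟩ := Set.not_subset.1 hnle
  have hmul : ∀ p ∈ P, h * p ∈ I := fun p hp => by
    rw [← hI.radical, ← Ideal.sInf_minimalPrimes, Ideal.mem_sInf]
    intro Q hQ
    by_cases hQP : Q = P
    · exact hQP ▸ Ideal.mul_mem_left _ _ hp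
    · exact Ideal.mul_mem_right _ _ (Finset.inf_le (f := id) (Finset.mem_erase.2 ⟨hQP, hfin.mem_toFinset.2 hQ⟩) hh)
  let q0 : Spec (CommRingCat.of (R ⧸ P)) ⟶ Spec (CommRingCat.of R) := Spec.map (CommRingCat.ofHom (Ideal.Quotient.mk P))
  let h0 := pullback.snd f q0
  haveI : LocallyOfFiniteType h0 := MorphismProperty.pullback_snd _ _ ‹LocallyOfFiniteType f›
  haveI : QuasiCompact h0 := MorphismProperty.pullback_snd _ _ ‹QuasiCompact f›
  obtain ⟨U, V, v, ⟨z, hz⟩, hv1, -, hv3, hs⟩ := exists_strat_open (R ⧸ P) _ h0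
  obtain ⟨_, ⟨ā, rfl⟩, hza, haU⟩ :=
    PrimeSpectrum.isTopologicalBasis_basic_opens.exists_subset_of_mem_open hz U.2
  obtain ⟨a, rfl⟩ := Ideal.Quotient.mk_surjective ā
  have haP : a ∉ P := fun hm => by
    have : (Ideal.Quotient.mk P a) ∈ PrimeSpectrum.asIdeal z := by
      rw [Ideal.Quotient.eq_zero_iff_mem.2 hm]; exact zero_mem _
    exact hza this
  have hgood : Good h0 U.ι := ⟨V, v, hv1, hv3, hs⟩
  refine ⟨h * a, fun hm => (hPp.mem_or_mem (hP.1.2 hm)).elim hhP haP, fun R' _ _ hI' hg => ?_⟩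
  rw [Ideal.map_sup, hI', bot_sup_eq, Ideal.map_span, Set.image_singleton, Ideal.span_singleton_eq_top, map_mul,
    IsUnit.mul_iff] at hg
  have hPk : ∀ p ∈ P, algebraMap R R' p = 0 := fun p hp => by
    have h0' : algebraMap R R' (h * p) ∈ I.map (algebraMap R R') := Ideal.mem_map_of_mem _ (hmul p hp)
    rw [hI', Ideal.mem_bot, map_mul] at h0'
    exact hg.1.mul_right_eq_zero.1 h0'
  let t : Spec (CommRingCat.of R') ⟶ Spec (CommRingCat.of (R ⧸ P)) :=
    Spec.map (CommRingCat.ofHom (Ideal.Quotient.lift P (algebraMap R R') hPk))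
  have ht : t ≫ q0 = Spec.map (CommRingCat.ofHom (algebraMap R R')) := by
    rw [← Spec.map_comp]
    rfl
  have hrange : Set.range t ⊆ Set.range U.ι := by
    rintro _ ⟨y, rfl⟩
    rw [Scheme.Opens.range_ι]
    refine haU ?_
    show Ideal.Quotient.mk P a ∉ PrimeSpectrum.asIdeal (t y)
    intro hm
    exact (PrimeSpectrum.isPrime y).ne_top (Ideal.eq_top_of_isUnit_mem _ (show algebraMap R R' a ∈ PrimeSpectrum.asIdeal y from hm) hg.2)
  have h1 := (Good.of_pullback (IsPullback.of_hasPullback f q0)).1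
    ((hgood.comp (IsOpenImmersion.lift U.ι t hrange)).congr (IsOpenImmersion.lift_fac _ _ _))
  exact h1.congr ht

theorem chain_noetherian {X' : Scheme.{u}} (f : X' ⟶ Spec (CommRingCat.of R)) [LocallyOfFiniteType f] [QuasiCompact f] :
    Relation.ReflTransGen (PStep (GoodC f)) (nilradical R) ⊤ := by
  generalize nilradical R = I
  induction I using WellFoundedGT.induction with
  | _ I ih =>
    by_cases hne : I = ⊤
    · rw [hne]
    have key : ∀ J, I < J → Piece (GoodC f) I J → (∃ g ∈ J, J ≤ (I ⊔ Ideal.span {g}).radical) →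
        Relation.ReflTransGen (PStep (GoodC f)) I ⊤ :=
      fun J hJ hP hg => Relation.ReflTransGen.head
        ⟨⟨hJ.le, IsNoetherian.noetherian _, IsNoetherian.noetherian _, hP⟩, hg⟩ (ih J hJ)
    by_cases hrad : I.IsRadical
    · obtain ⟨g, hg, hP⟩ := exists_step f I hrad hne
      exact key _ (left_lt_sup.2 fun hle => hg (hle (Ideal.mem_span_singleton_self g))) hP
        ⟨g, Ideal.mem_sup_right (Ideal.mem_span_singleton_self g), Ideal.le_radical⟩
    · exact key I.radical (lt_of_le_of_ne Ideal.le_radical fun h => hrad (Ideal.radical_eq_iff.1 h.symm))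
        (fun R' _ _ h1 h2 => zeroOK_goodC f R' (subsingleton_of_radical_le le_rfl h1 h2))
        ⟨0, zero_mem _, Ideal.radical_mono le_sup_left⟩

end Ring

/-- A chain for a morphism of finite presentation. -/
theorem exists_chain_fp (R : CommRingCat.{u}) {X' : Scheme.{u}} (f : X' ⟶ Spec R) [LocallyOfFinitePresentation f]
    [QuasiCompact f] [QuasiSeparated f] :
    ∃ I₀ : Ideal R, I₀.FG ∧ I₀ ≤ nilradical R ∧
      Relation.ReflTransGen (PStep (GoodC (R := R) f)) I₀ ⊤ := by
  obtain ⟨i, ⟨M⟩⟩ := GrothLib.LimDescend.exists_model (GrothLib.LimDescend.fgDiagram R)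
    (GrothLib.LimDescend.fgCone R) (GrothLib.LimDescend.isLimitFgCone R) f
  let A₀ : Subalgebra ℤ R := i.unop.1
  haveI : Algebra.FiniteType ℤ A₀ := (Subalgebra.fg_iff_finiteType _).1 i.unop.2
  haveI : IsNoetherianRing A₀ := Algebra.FiniteType.isNoetherianRing ℤ A₀
  let f₀ : M.obj ⟶ Spec (CommRingCat.of ↥A₀) := M.hom
  haveI : LocallyOfFiniteType f₀ := by show LocallyOfFiniteType M.hom; infer_instance
  haveI : QuasiCompact f₀ := M.qc
  have hc := chain_noetherian f₀
  let ρ : A₀ →+* R := algebraMap A₀ R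
  refine ⟨(nilradical A₀).map ρ, Ideal.FG.map (IsNoetherian.noetherian _) _, ?_, ?_⟩
  · rw [Ideal.map_le_iff_le_comap]
    exact fun x hx => mem_nilradical.2 ((mem_nilradical.1 hx).map _)
  · rw [← Ideal.map_top ρ]
    refine hc.lift _ fun I J hIJ => ?_
    obtain ⟨⟨hle, hIfg, hJfg, hP⟩, g, hgJ, hgr⟩ := hIJ
    refine ⟨⟨Ideal.map_mono hle, hIfg.map _, hJfg.map _, fun R' _ _ h1 h2 => ?_⟩,
      ρ g, Ideal.mem_map_of_mem _ hgJ, ?_⟩
    · letI : Algebra A₀ R' := ((algebraMap R R').comp ρ).toAlgebra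
      rw [Ideal.map_map] at h1 h2
      refine (Good.of_pullback M.isPullback).2 ((hP R' h1 h2).congr ?_)
      show Spec.map (CommRingCat.ofHom ((algebraMap R R').comp ρ)) = Spec.map _ ≫ Spec.map (CommRingCat.ofHom ρ)
      rw [← Spec.map_comp]
      try rfl
    · refine (Ideal.map_mono hgr).trans ((Ideal.map_radical_le _).trans ?_)
      rw [Ideal.map_sup, Ideal.map_span, Set.image_singleton]

end GrothLib.SmoothStratG1
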