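import Groth.Agent.Lib.SmoothStratG1.Chain

/-!
# The smoothness stratification
-/

set_option autoImplicit false
set_option backward.isDefEq.respectTransparency false
set_option linter.style.haveILetI false
set_option maxHeartbeats 1000000
universe u

open CategoryTheory CategoryTheory.Limits AlgebraicGeometry TopologicalSpace

namespace GrothLib.SmoothStratG1

open GrothLib.SmoothStrat6 GrothLib.FlatStrat

variable {X S : Scheme.{u}} (f : X ⟶ S)

/-- One step of the stratification. -/
def GStep (K L : S.IdealSheafData) : Prop :=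
  K ≤ L ∧ (∀ U : S.affineOpens, (K.ideal U).FG) ∧ (∀ U : S.affineOpens, (L.ideal U).FG) ∧ Good f (stratumι K L)

theorem gStep_of_empty {K L : S.IdealSheafData} (hle : K ≤ L) (hK : ∀ U : S.affineOpens, (K.ideal U).FG)
    (hL : ∀ U : S.affineOpens, (L.ideal U).FG) (h : (K.support : Set S) ⊆ L.support) : GStep f K L :=
  ⟨hle, hK, hL, by
    haveI : IsEmpty ↥(K.subschemeι ⁻¹ᵁ L.support.compl).toScheme :=
      ⟨fun t => (stratumι_mem K L t).2 (h (stratumι_mem K L t).1)⟩
    exact Good.of_isEmpty f _⟩

theorem gStep_of_piece {K L : S.IdealSheafData} (hle : K ≤ L)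
    (hK : ∀ U : S.affineOpens, (K.ideal U).FG) (hL : ∀ U : S.affineOpens, (L.ideal U).FG) (V : S.affineOpens)
    (hV : (K.support : Set S) \ L.support ⊆ V.1) (g : Γ(S, V.1)) (hg : g ∈ L.ideal V)
    (hgr : L.ideal V ≤ (K.ideal V ⊔ Ideal.span {g}).radical)
    (h : Piece (GoodC (R := Γ(S, V.1)) (pullback.snd f V.2.fromSpec)) (K.ideal V) (L.ideal V)) : GStep f K L := by
  refine ⟨hle, hK, hL, ?_⟩
  let O : K.subscheme.Opens := K.subschemeι ⁻¹ᵁ L.support.compl
  have hOeq : O = K.subscheme.basicOpen (K.subschemeι.app V.1 g) := by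
    rw [← Scheme.preimage_basicOpen]
    ext x
    have hxK : K.subschemeι x ∈ K.support := by
      rw [← SetLike.mem_coe, ← K.range_subschemeι]; exact ⟨x, rfl⟩
    constructor
    · intro hx
      have hx' : K.subschemeι x ∉ L.support := hx
      have hxV : K.subschemeι x ∈ V.1 := hV ⟨hxK, hx'⟩
      by_contra hc
      apply hx'
      rw [Scheme.IdealSheafData.mem_support_iff_of_mem hxV, Scheme.mem_zeroLocus_iff]
      rw [Scheme.IdealSheafData.mem_support_iff_of_mem hxV, Scheme.mem_zeroLocus_iff] at hxK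
      intro a ha hxa
      let φ := (S.presheaf.germ V.1 (K.subschemeι x) hxV).hom
      have hle' : K.ideal V ⊔ Ideal.span {g} ≤ (IsLocalRing.maximalIdeal _).comap φ := by
        refine sup_le (fun c hc' => (IsLocalRing.mem_maximalIdeal _).2 fun hu => hxK c hc'
          ((Scheme.mem_basicOpen _ _ _ hxV).2 hu)) ?_
        rw [Ideal.span_singleton_le_iff_mem]
        exact (IsLocalRing.mem_maximalIdeal _).2 fun hu => hc ((Scheme.mem_basicOpen _ _ _ hxV).2 hu)
      have := (Ideal.IsPrime.radical_le_iff inferInstance).2 hle' (hgr ha)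
      exact (IsLocalRing.mem_maximalIdeal _).1 this ((Scheme.mem_basicOpen _ _ _ hxV).1 hxa)
    · intro hx hx'
      exact Set.disjoint_left.1 (GrothLib.BlowUp.disjoint_basicOpen_support hg) hx hx'
  haveI hWaff : IsAffine O.toScheme := by
    show IsAffineOpen O
    rw [hOeq]
    exact (V.2.preimage K.subschemeι).basicOpen _
  have e : (⊤ : O.toScheme.Opens) ≤ stratumι K L ⁻¹ᵁ V.1 := fun x _ =>
    hV ⟨(stratumι_mem K L x).1, (stratumι_mem K L x).2⟩
  have hT : IsAffineOpen (⊤ : O.toScheme.Opens) := isAffineOpen_top _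
  letI : Algebra Γ(S, V.1) Γ(O.toScheme, ⊤) := ((stratumι K L).appLE V.1 ⊤ e).hom.toAlgebra
  obtain ⟨hb, ht⟩ := map_appLE_stratum hT e
  have h1 := (Good.of_pullback (IsPullback.of_hasPullback f V.2.fromSpec)).1 (h Γ(O.toScheme, ⊤) hb ht)
  haveI : IsIso hT.fromSpec := by
    rw [IsAffineOpen.fromSpec_top]; infer_instance
  refine ((h1.congr ?_).comp (inv hT.fromSpec)).congr (IsIso.inv_hom_id_assoc _ _)
  exact IsAffineOpen.SpecMap_appLE_fromSpec (stratumι K L) V.2 hT e

theorem exists_chain [CompactSpace S] [QuasiSeparatedSpace S] [LocallyOfFinitePresentation f]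
    [QuasiCompact f] [QuasiSeparated f] (O : Finset S.affineOpens) :
    ∃ I₀ L : S.IdealSheafData, (I₀.support : Set S) = Set.univ ∧ (∀ U : S.affineOpens, (I₀.ideal U).FG) ∧
      (∀ U : S.affineOpens, (L.ideal U).FG) ∧
      (L.support : Set S) = (⋃ V ∈ O, (V.1 : Set S))ᶜ ∧ Relation.ReflTransGen (GStep f) I₀ L := by
  classical
  induction O using Finset.induction with
  | empty =>
    exact ⟨⊥, ⊥, by simp, fun U => ⟨∅, by simp⟩, fun U => ⟨∅, by simp⟩,
      by simp, .refl⟩
  | @insert V O hVO ih =>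
    obtain ⟨I₀, L, hs₀, hI₀, hL, hLs, hch⟩ := ih
    obtain ⟨J, hJ, hJs⟩ := FgSupport6.exists_fg_support_eq V.1 V.2.isCompact
    let j : Spec Γ(S, V.1) ⟶ S := V.2.fromSpec
    let f' := pullback.snd f j
    haveI : LocallyOfFinitePresentation f' := MorphismProperty.pullback_snd _ _ ‹LocallyOfFinitePresentation f›
    haveI : QuasiCompact f' := MorphismProperty.pullback_snd _ _ ‹QuasiCompact f›
    haveI : QuasiSeparated f' := MorphismProperty.pullback_snd _ _ ‹QuasiSeparated f›
    obtain ⟨A, hA, hAn, hAc⟩ := exists_chain_fp Γ(S, V.1) f'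
    have hJV : J.ideal V = ⊤ := Nagata6.ideal_eq_top_of_disjoint J V (by
      rw [hJs]; exact Set.disjoint_left.2 fun x hx h => h hx)
    have hfg : ∀ E : S.IdealSheafData, (∀ U : S.affineOpens, (E.ideal U).FG) →
        ∀ U : S.affineOpens, ((L ⊔ E * J).ideal U).FG := fun E hE U => by
      rw [Scheme.IdealSheafData.ideal_sup, Pi.sup_apply, Scheme.IdealSheafData.ideal_mul, Pi.mul_apply]
      exact Submodule.FG.sup (hL U) (Submodule.FG.mul (hE U) (hJ U))
    have hloc : ∀ E : S.IdealSheafData, (L ⊔ E * J).ideal V = L.ideal V ⊔ E.ideal V := fun E => by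
      rw [Scheme.IdealSheafData.ideal_sup, Pi.sup_apply, Scheme.IdealSheafData.ideal_mul, Pi.mul_apply, hJV,
        Ideal.mul_top]
    have hmono : ∀ E E' : S.IdealSheafData, E ≤ E' → L ⊔ E * J ≤ L ⊔ E' * J := fun E E' h U => by
      simp only [Scheme.IdealSheafData.ideal_sup, Pi.sup_apply, Scheme.IdealSheafData.ideal_mul, Pi.mul_apply]
      exact sup_le_sup_left (Ideal.mul_mono_left (h U)) _
    have hLJ : ∀ U : S.affineOpens, ((L ⊔ J).ideal U).FG := fun U => by
      rw [Scheme.IdealSheafData.ideal_sup, Pi.sup_apply]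
      exact Submodule.FG.sup (hL U) (hJ U)
    have key : ∀ I : Ideal Γ(S, V.1), Relation.ReflTransGen (PStep (GoodC (R := Γ(S, V.1)) f')) I ⊤ →
        ∀ E : S.IdealSheafData, (∀ U : S.affineOpens, (E.ideal U).FG) → E.ideal V = I →
          Relation.ReflTransGen (GStep f) (L ⊔ E * J) (L ⊔ J) := by
      intro I hI
      induction hI using Relation.ReflTransGen.head_induction_on with
      | refl =>
        intro E hE hEV
        refine Relation.ReflTransGen.single (gStep_of_empty f ?_ (hfg E hE) hLJ ?_)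
        · intro U
          simp only [Scheme.IdealSheafData.ideal_sup, Pi.sup_apply, Scheme.IdealSheafData.ideal_mul, Pi.mul_apply]
          exact sup_le_sup_left Ideal.mul_le_right _
        · rintro x hx
          simp only [Scheme.IdealSheafData.support_sup, Scheme.IdealSheafData.support_mul, Closeds.coe_inf,
            Closeds.coe_sup, Set.mem_inter_iff, Set.mem_union] at hx ⊢
          refine ⟨hx.1, hx.2.elim (fun hxE => ?_) id⟩
          by_contra hxJ
          have hxV : x ∈ V.1 := by rw [hJs] at hxJ; simpa using hxJ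
          have := (Scheme.IdealSheafData.mem_support_iff_of_mem (U := V) hxV).mp hxE
          rw [hEV, Scheme.mem_zeroLocus_iff] at this
          exact this 1 trivial (by simpa using hxV)
      | @head I I' hII' _ ih =>
        intro E hE hEV
        obtain ⟨⟨hle, -, hI'fg, hP⟩, g, hgI', hgr⟩ := hII'
        obtain ⟨E', hE', hE'V⟩ := exists_ideal_extension V I' hI'fg
        have hfgE : ∀ U : S.affineOpens, ((E ⊔ E').ideal U).FG := fun U => by
          rw [Scheme.IdealSheafData.ideal_sup, Pi.sup_apply]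
          exact Submodule.FG.sup (hE U) (hE' U)
        have hEE : (E ⊔ E').ideal V = I' := by
          rw [Scheme.IdealSheafData.ideal_sup, Pi.sup_apply, hEV, hE'V, sup_eq_right.2 hle]
        refine Relation.ReflTransGen.head ?_ (ih (E ⊔ E') hfgE hEE)
        refine gStep_of_piece f (hmono _ _ le_sup_left) (hfg E hE) (hfg _ hfgE) V ?_ g ?_ ?_ ?_
        · rintro x ⟨hx, hx'⟩
          simp only [Scheme.IdealSheafData.support_sup, Scheme.IdealSheafData.support_mul, Closeds.coe_inf,
            Closeds.coe_sup, Set.mem_inter_iff, Set.mem_union] at hx hx'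
          by_contra hxV
          exact hx' ⟨hx.1, Or.inr (hJs.ge hxV)⟩
        · rw [hloc, hEE]
          exact Ideal.mem_sup_right hgI'
        · rw [hloc, hloc, hEV, hEE]
          refine sup_le (le_sup_left.trans (le_sup_left.trans Ideal.le_radical)) (hgr.trans (Ideal.radical_mono ?_))
          exact sup_le_sup_right le_sup_right _
        · rw [hloc, hloc, hEV, hEE]
          intro R' _ _ h1 h2
          rw [Ideal.map_sup, sup_eq_bot_iff] at h1
          rw [Ideal.map_sup, h1.1, bot_sup_eq] at h2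
          exact hP R' h1.2 h2
    obtain ⟨E, hE, hEV⟩ := exists_ideal_extension V A hA
    refine ⟨I₀, L ⊔ J, hs₀, hI₀, hLJ, ?_,
      hch.trans (Relation.ReflTransGen.head (gStep_of_empty f le_sup_left hL (hfg E hE) ?_) (key A hAc E hE hEV))⟩
    · rw [Scheme.IdealSheafData.support_sup, Closeds.coe_inf, hLs, hJs]
      ext x
      simp only [Finset.set_biUnion_insert, Set.compl_union, Set.mem_inter_iff]
      exact And.comm
    · intro x hx
      simp only [Scheme.IdealSheafData.support_sup, Scheme.IdealSheafData.support_mul, Closeds.coe_inf,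
        Closeds.coe_sup, Set.mem_inter_iff, Set.mem_union]
      refine ⟨hx, ?_⟩
      by_cases hxV : x ∈ V.1
      · refine Or.inl ((Scheme.IdealSheafData.mem_support_iff_of_mem (U := V) hxV).mpr ?_)
        rw [hEV, Scheme.mem_zeroLocus_iff]
        intro a ha hxa
        exact ((mem_nilradical.1 (hAn ha)).map (S.presheaf.germ V.1 x hxV).hom).not_isUnit
          ((S.mem_basicOpen _ x hxV).1 hxa)
      · exact Or.inr (hJs.ge hxV)

/-- **The smoothness stratification.** -/
theorem exists_stratification [CompactSpace S] [QuasiSeparatedSpace S]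
    [LocallyOfFinitePresentation f] [QuasiCompact f] [QuasiSeparated f] :
    ∃ (t : ℕ) (I : Fin (t + 1) → S.IdealSheafData), Monotone I ∧ I (Fin.last t) = ⊤ ∧
      ((I 0).support : Set S) = Set.univ ∧ (∀ i, ∀ U : S.affineOpens, ((I i).ideal U).FG) ∧
      ∀ i : Fin t, GStep f (I i.castSucc) (I i.succ) := by
  classical
  let 𝒰 := S.affineCover.finiteSubcover
  obtain ⟨I₀, L, hs₀, hfg₀, -, hLs, hch⟩ := exists_chain f
    (Finset.univ.image fun i : 𝒰.I₀ => (⟨(𝒰.f i).opensRange, isAffineOpen_opensRange _⟩ : S.affineOpens))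
  obtain rfl : L = ⊤ := (Scheme.IdealSheafData.support_eq_bot_iff (I := L)).1 (Closeds.ext (by
    rw [hLs, Closeds.coe_bot, Set.compl_empty_iff]
    refine Set.eq_univ_of_forall fun x => ?_
    exact Set.mem_biUnion (Finset.mem_image_of_mem _ (Finset.mem_univ (𝒰.idx x))) (𝒰.covers x)))
  obtain ⟨t, I, hm, h0, hl, hs⟩ := exists_fin_of_reflTransGen (fun _ _ h => h.1) hch
  refine ⟨t, I, hm, hl, h0 ▸ hs₀, fun i => ?_, hs⟩
  cases i using Fin.cases with
  | zero => exact h0 ▸ hfg₀
  | succ j => exact (hs j).2.2.1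

end GrothLib.SmoothStratG1
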